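import Cfsg.Agent.S5653
import Cfsg.Agent.S5655
import Cfsg.Agent.UnitGeoSmall91.IsoPair
import Cfsg.Agent.UnitGeoSmall91.Nondeg
import Cfsg.Agent.UnitMono91.Main

/-!
Geometric subgroups of `SU_n(q)` for small `n`: subspaces and decompositions.
-/

set_option autoImplicit false
open Cfsg

namespace CfsgLib.UnitGeoSmall91

theorem ts_maximal {F : Type*} [Field F] [Fintype F] (n q : ℕ) (hF : Fintype.card F = q ^ 2) (hn : 4 ≤ n) (W : Submodule F (Fin n → F)) (hW0 : W ≠ ⊥) (hW : Cfsg.Geo.IsTotallySingularFor (Cfsg.hermForm n F q) W) : Cfsg.Geo.IsMaximalIn (Cfsg.GU n F q ⊓ Cfsg.Geo.specialLinear (Fin n) F) (Cfsg.Geo.subspaceStabilizer W ⊓ (Cfsg.GU n F q ⊓ Cfsg.Geo.specialLinear (Fin n) F)) := by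
  obtain ⟨σ, hσ, hf⟩ := CfsgLib.LinAlg.Witt.exists_isUnitaryForm_hermForm (n := n) hF
  obtain ⟨w, hw, hw0⟩ := W.ne_bot_iff.1 hW0
  obtain ⟨d, hd⟩ := (hf.nondegenerate w hw0).2
  obtain ⟨c, hc0, hc⟩ := CfsgLib.UnitCentres.exists_traceZero hf
  obtain ⟨t, ht⟩ := CfsgLib.UnitCentres.exists_isotropic_shift hf (hW w hw w hw) hd
  have hwz : hermForm n F q w (d + t • w) ≠ 0 := by
    rw [CfsgLib.UnitCentres.add_right hf, CfsgLib.UnitCentres.smul_right hf, hW w hw w hw, mul_zero,
      add_zero]
    exact hd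
  have hzW : d + t • w ∉ W := fun h => hwz (hW w hw _ h)
  refine ⟨lt_of_le_not_ge inf_le_right fun h => ?_, fun M hHM hMK => ?_⟩
  · have h1 := CfsgLib.TransvGL.mem_subspaceStabilizer.1 (h (CfsgLib.UnitCentres.mem_special.2
      ⟨CfsgLib.UnitCentres.uT_iso hf ht hc, CfsgLib.UnitCentres.uT_mem_specialLinear hf ht c⟩)).1 w
    have h2 := h1.1 hw
    rw [CfsgLib.UnitCentres.uT_mulVec, W.add_mem_iff_right hw,
      W.smul_mem_iff (mul_ne_zero hc0 hwz)] at h2
    exact hzW h2
  · by_cases hle : M ≤ Geo.subspaceStabilizer W ⊓ (GU n F q ⊓ Geo.specialLinear (Fin n) F)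
    · exact Or.inl (le_antisymm hle hHM)
    obtain ⟨g, hgM, hgH⟩ := SetLike.not_le_iff_exists.1 hle
    refine Or.inr (le_antisymm hMK (CfsgLib.UnitCentres.gu_le_of_centres hF (by omega) hσ hf ?_))
    refine Cfsg.Agent.S5653.centre_all hf (fun v hv hvW => ⟨hv, fun c hc => hHM ⟨?_, ?_⟩⟩) hW hgM
      (CfsgLib.UnitCentres.mem_special.1 (hMK hgM)).1 (fun hs => hgH ⟨hs, hMK hgM⟩)
      fun h hiso hsl hst => hHM ⟨hst, CfsgLib.UnitCentres.mem_special.2 ⟨hiso, hsl⟩⟩
    · exact CfsgLib.UnitCentres.uT_mem_subspaceStabilizer hf hv (Or.inr hvW) c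
    · exact CfsgLib.UnitCentres.mem_special.2
        ⟨CfsgLib.UnitCentres.uT_iso hf hv hc, CfsgLib.UnitCentres.uT_mem_specialLinear hf hv c⟩


theorem nd_maximal {F : Type*} [Field F] [Fintype F] (n q : ℕ) (hF : Fintype.card F = q ^ 2) (hn4 : 4 ≤ n) (W : Submodule F (Fin n → F)) (hn : 4 + Module.finrank F W < n) (hW0 : W ≠ ⊥) (hW : Cfsg.Geo.IsNondegenerateOn (Cfsg.hermForm n F q) W) (hdim : 2 * Module.finrank F W < n) : Cfsg.Geo.IsMaximalIn (Cfsg.GU n F q ⊓ Cfsg.Geo.specialLinear (Fin n) F) (Cfsg.Geo.subspaceStabilizer W ⊓ (Cfsg.GU n F q ⊓ Cfsg.Geo.specialLinear (Fin n) F)) := by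
  obtain ⟨σ, hσ, hf⟩ := CfsgLib.LinAlg.Witt.exists_isUnitaryForm_hermForm (n := n) hF
  have hcard : 4 + Module.finrank F W < Fintype.card (Fin n) := by rw [Fintype.card_fin]; omega
  refine ⟨lt_of_le_not_ge inf_le_right fun h => ?_, fun M hHM hMK => ?_⟩
  · obtain ⟨w, hw, hw0⟩ := W.ne_bot_iff.1 hW0
    obtain ⟨a, ha, hwa⟩ := (hW w hw hw0).2
    obtain ⟨u, hu, hu0, -, huu⟩ := exists_norm_in hf hW ∅ (by simp; omega) (ν := -hermForm n F q a a)
      (by rw [map_neg, CfsgLib.UnitCentres.norm_fixed hf])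
    obtain ⟨c, hc0, hc⟩ := CfsgLib.UnitCentres.exists_traceZero hf
    have hzz : hermForm n F q (a + u) (a + u) = 0 := by
      rw [hf.add_left, CfsgLib.UnitCentres.add_right hf, CfsgLib.UnitCentres.add_right hf, hu a ha,
        CfsgLib.UnitCentres.orth_comm hf (hu a ha), huu]
      ring
    have h1 := CfsgLib.TransvGL.mem_subspaceStabilizer.1 (h (CfsgLib.UnitCentres.mem_special.2
      ⟨CfsgLib.UnitCentres.uT_iso hf hzz hc, CfsgLib.UnitCentres.uT_mem_specialLinear hf hzz c⟩)).1 w
    have h2 := h1.1 hw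
    rw [CfsgLib.UnitCentres.uT_mulVec, CfsgLib.UnitCentres.add_right hf,
      CfsgLib.UnitCentres.orth_comm hf (hu w hw), add_zero, W.add_mem_iff_right hw,
      W.smul_mem_iff (mul_ne_zero hc0 hwa), W.add_mem_iff_right ha] at h2
    exact hu0 (eq_zero_of_mem_both hf hW h2 hu)
  · by_cases hle : M ≤ Geo.subspaceStabilizer W ⊓ (GU n F q ⊓ Geo.specialLinear (Fin n) F)
    · exact Or.inl (le_antisymm hle hHM)
    obtain ⟨g, hgM, hgH⟩ := SetLike.not_le_iff_exists.1 hle
    refine Or.inr (le_antisymm hMK (CfsgLib.UnitCentres.gu_le_of_centres hF (by omega) hσ hf ?_))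
    have hgi := (CfsgLib.UnitCentres.mem_special.1 (hMK hgM)).1
    obtain ⟨x, hx, hxx, hgx1, hgx2⟩ := exists_mixed hf hW hcard
      (by rw [Fintype.card_fin]; omega) hgi (fun hs => hgH ⟨hs, hMK hgM⟩)
    have hG : ∀ v (hv : hermForm n F q v v = 0) c, c + σ c = 0 →
        CfsgLib.UnitCentres.uT hf hv c ∈ GU n F q ⊓ Geo.specialLinear (Fin n) F := fun v hv c hc =>
      CfsgLib.UnitCentres.mem_special.2
        ⟨CfsgLib.UnitCentres.uT_iso hf hv hc, CfsgLib.UnitCentres.uT_mem_specialLinear hf hv c⟩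
    have hPU : ∀ v ∈ CfsgLib.UnitCentres.perp hf (W : Set (Fin n → F)), hermForm n F q v v = 0 →
        CfsgLib.UnitCentres.Centre hf M v := fun v hv hvv => ⟨hvv, fun c hc => hHM
      ⟨CfsgLib.UnitCentres.uT_mem_subspaceStabilizer hf hvv
        (Or.inr fun x hx => CfsgLib.UnitCentres.orth_comm hf (hv x hx)) c, hG v hvv c hc⟩⟩
    exact centre_all hf hW hcard
      (fun v hv hvv => ⟨hvv, fun c hc => hHM
        ⟨CfsgLib.UnitCentres.uT_mem_subspaceStabilizer hf hvv (Or.inl hv) c, hG v hvv c hc⟩⟩)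
      hPU (fun k hk hks hkst => hHM ⟨hkst, CfsgLib.UnitCentres.mem_special.2 ⟨hk, hks⟩⟩)
      ((hPU x hx hxx).image hgM hgi) hgx1 hgx2


theorem decomp_maximal {F : Type*} [Field F] [Fintype F] (n q : ℕ) (hF : Fintype.card F = q ^ 2) (hn : n = 10 ∨ n = 12) {t : ℕ} (k : ℕ) (D : Fin t → Submodule F (Fin n → F)) (hD : Cfsg.Geo.IsNondegenerateMDecomposition (Cfsg.hermForm n F q) k D) (hex : ¬ (k = 2 ∧ q = 2)) : Cfsg.Geo.IsMaximalIn (Cfsg.GU n F q ⊓ Cfsg.Geo.specialLinear (Fin n) F) (Cfsg.Geo.decompositionStabilizer D ⊓ (Cfsg.GU n F q ⊓ Cfsg.Geo.specialLinear (Fin n) F)) := by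
  classical
  open Matrix CfsgLib.TransvGL CfsgLib.UnitCentres CfsgLib.UnitMono CfsgLib.UnitBlock CfsgLib.CircleSums
    CfsgLib.MonoBasics CfsgLib.DecompProj in
  exact (by
    have hkt := mul_eq_card hD.decomp
    rw [Fintype.card_fin] at hkt
    have hk0 := hD.decomp.pos
    have ht2 := hD.decomp.two_le
    obtain ⟨σ, hσ, hσne, -⟩ := CfsgLib.LinAlg.Witt.exists_conjAut hF
    have hS : Std q σ := ⟨hF, hσ⟩
    have hsf : (sf σ : (Fin n → F) → (Fin n → F) → F) = Cfsg.hermForm n F q := by
      funext x y; simp [sf, Cfsg.hermForm, hσ]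
    have hfn : Cfsg.Geo.IsUnitaryForm σ (Cfsg.hermForm n F q) := hsf ▸ hS.isUnitary
    have hnd : ∀ i, CfsgLib.Unitary.IsNondeg q (D i) := fun i u hu h => by
      by_contra hne
      obtain ⟨-, x, hx, hxu⟩ := hD.nondegenerate i u hu hne
      exact hxu (h x hx)
    choose b hb hbD hbspan using fun i =>
      CfsgLib.Unitary.exists_orthonorm_basis hF (hnd i) (hD.decomp.finrank_eq i)
    let G : Fin k × Fin t → (Fin n → F) := fun p => b p.2 p.1
    have hG : ∀ p p', Cfsg.hermForm n F q (G p) (G p') = if p = p' then 1 else 0 := by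
      rintro ⟨j, i⟩ ⟨j', i'⟩
      by_cases h : i = i'
      · subst h
        rw [show Cfsg.hermForm n F q (G (j, i)) (G (j', i)) = _ from hb i j j']
        simp
      · rw [hD.orthogonal i i' h _ (hbD i j) _ (hbD i' j'), if_neg (by simp [h])]
    let L0 : (Fin k × Fin t → F) →ₗ[F] (Fin n → F) := Fintype.linearCombination F G
    have hL0 : ∀ x, L0 x = ∑ p, x p • G p := fun x => rfl
    have hcoord : ∀ x p, Cfsg.hermForm n F q (L0 x) (G p) = x p := fun x p => by
      rw [hL0, CfsgLib.Unitary.herm_sum_left, Finset.sum_eq_single p]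
      · rw [CfsgLib.Unitary.herm_smul_left, hG, if_pos rfl, mul_one]
      · intro p' _ hp'
        rw [CfsgLib.Unitary.herm_smul_left, hG, if_neg hp', mul_zero]
      · simp
    have hinj : Function.Injective L0 := fun x y h => funext fun p => by
      rw [← hcoord x p, h, hcoord]
    let L : (Fin k × Fin t → F) ≃ₗ[F] (Fin n → F) :=
      LinearMap.linearEquivOfInjective L0 hinj (by
        rw [Module.finrank_fintype_fun_eq_card, Module.finrank_fintype_fun_eq_card, Fintype.card_prod,
          Fintype.card_fin, Fintype.card_fin, Fintype.card_fin, ← hkt, mul_comm])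
    have hL : ∀ x, L x = L0 x := fun x => rfl
    have hLf : ∀ x y, Cfsg.hermForm n F q (L x) (L y) = sf σ x y := fun x y => by
      rw [hL, hL, hL0 y, CfsgLib.Unitary.herm_sum_right hF, sf]
      refine Finset.sum_congr rfl fun p _ => ?_
      rw [CfsgLib.Unitary.herm_smul_right, hcoord, hσ, mul_comm]
    have hLsupp : ∀ i y, L (emb i y) ∈ D i := fun i y => by
      rw [hL, hL0]
      refine Submodule.sum_mem _ fun p _ => ?_
      obtain ⟨j, i'⟩ := p
      by_cases h : i' = i
      · subst h; exact Submodule.smul_mem _ _ (hbD i' j)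
      · simp [emb, h]
    have hLsurj : ∀ i, ∀ v ∈ D i, ∃ y, L (emb i y) = v := fun i v hv => by
      rw [← hbspan i, Submodule.mem_span_range_iff_exists_fun] at hv
      obtain ⟨c, rfl⟩ := hv
      refine ⟨c, ?_⟩
      rw [hL, hL0, Fintype.sum_prod_type]
      refine Finset.sum_congr rfl fun j _ => ?_
      rw [Finset.sum_eq_single i (fun i' _ h => by simp [emb, h]) (by simp)]
      simp [emb, G]
    set Φ := Cfsg.Agent.S5655.transport L with hΦ
    have hΦiso : ∀ g, g ∈ (Cfsg.GU n F q ⊓ Cfsg.Geo.specialLinear (Fin n) F).comap Φ ↔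
        Iso (sf σ) g ∧ g ∈ Cfsg.Geo.specialLinear (Fin k × Fin t) F := fun g => by
      rw [Subgroup.mem_comap, mem_special, CfsgLib.PseudoRefl.mem_specialLinear_iff,
        CfsgLib.PseudoRefl.mem_specialLinear_iff, Cfsg.Agent.S5655.det_transport]
      refine and_congr_left' ⟨fun h x y => ?_, fun h u v => ?_⟩
      · rw [← hLf, ← hLf, ← Cfsg.Agent.S5655.transport_mulVec, ← Cfsg.Agent.S5655.transport_mulVec, h]
      · obtain ⟨x, rfl⟩ := L.surjective u
        obtain ⟨y, rfl⟩ := L.surjective v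
        rw [Cfsg.Agent.S5655.transport_mulVec, Cfsg.Agent.S5655.transport_mulVec, hLf, hLf, h]
    have hstab : ∀ g, StabBlocks g → Φ g ∈ Cfsg.Geo.decompositionStabilizer D := by
      rintro g ⟨π, hπ⟩
      refine mem_decompositionStabilizer_of_maps hD.decomp π fun i v hv => ?_
      obtain ⟨y, rfl⟩ := hLsurj i v hv
      obtain ⟨y', hy'⟩ := hπ i y
      rw [Cfsg.Agent.S5655.transport_mulVec, hy']
      exact hLsupp _ _
    have hk2 : k = 2 → 3 ≤ q := fun h => by
      have := hS.two_le
      by_contra hc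
      exact hex ⟨h, by omega⟩
    refine ⟨lt_of_le_of_ne inf_le_right ?_, fun M hHM hMK => ?_⟩
    · -- a transvection mixing members
      intro e
      obtain ⟨j0⟩ : Nonempty (Fin k) := ⟨⟨0, hk0⟩⟩
      set i0 : Fin t := ⟨0, by omega⟩
      set i1 : Fin t := ⟨1, by omega⟩
      have hi01 : i0 ≠ i1 := by simp [i0, i1]
      have hout : ∀ (z : Fin k × Fin t → F) (c : F) (y : Fin k → F), sf σ z z = 0 → c + σ c = 0 →
          ∀ (hz : sf σ z z = 0), ∀ p p', p ≠ p' →
          blk (emb i0 y + (c * sf σ (emb i0 y) z) • z) p ≠ 0 →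
          blk (emb i0 y + (c * sf σ (emb i0 y) z) • z) p' ≠ 0 → False := by
        intro z c y _ hc hz p p' hpp hp hp'
        have hmem : uT (hS.isUnitary) hz c ∈ (Cfsg.GU n F q ⊓ Cfsg.Geo.specialLinear (Fin n) F).comap Φ :=
          (hΦiso _).2 ⟨uT_iso _ hz hc, uT_mem_specialLinear _ hz c⟩
        rw [Subgroup.mem_comap, ← e] at hmem
        obtain ⟨i, hi⟩ := image_mem_of_stabilizer (Subgroup.mem_inf.1 hmem).1 (hLsupp i0 y)
        obtain ⟨y', hy'⟩ := hLsurj i _ hi
        rw [Cfsg.Agent.S5655.transport_mulVec, uT_mulVec] at hy'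
        rw [← L.injective hy', blk_emb] at hp hp'
        have h1 : p = i := by by_contra h; exact hp (if_neg h)
        have h2 : p' = i := by by_contra h; exact hp' (if_neg h)
        exact hpp (h1.trans h2.symm)
      by_cases hq : q = 2
      · have hone : ∀ z : F, z ≠ 0 → z * σ z = 1 := fun z hz => by
          have := FiniteField.pow_card_sub_one_eq_one z hz
          rw [hF, hq] at this
          rw [hσ, hq]; linear_combination this
        have h20 : (2 : F) = 0 := by
          have h5 := Nat.cast_card_eq_zero F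
          rw [hF, hq] at h5
          push_cast at h5
          exact pow_eq_zero_iff (show 2 ≠ 0 by norm_num) |>.1 (by linear_combination h5)
        by_cases hk1 : k = 1
        · subst hk1
          set i2 : Fin t := ⟨2, by omega⟩
          set i3 : Fin t := ⟨3, by omega⟩
          set z : Fin 1 × Fin t → F := fun p => if p.2.val < 4 then 1 else 0 with hzdef
          have hz : sf σ z z = 0 := by
            rw [sf_blk, ← Finset.sum_subset (Finset.subset_univ ({i0, i1, i2, i3} : Finset (Fin t)))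
              fun i _ hi => by
                simp only [i0, i1, i2, i3, Finset.mem_insert, Finset.mem_singleton, Fin.ext_iff, not_or] at hi
                simp [sf, blk, hzdef, show ¬ (i.val < 4) by omega]]
            simp [sf, blk, hzdef, i0, i1, i2, i3]
            linear_combination 2 * h20
          have e1 : sf σ (emb i0 (fun _ : Fin 1 => (1 : F))) z = 1 := by
            rw [sf_emb_left]; simp [sf, blk, hzdef, i0]
          refine hout z 1 (fun _ => 1) hz (by rw [map_one]; linear_combination h20) hz i2 i3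
            (by simp [i2, i3]) ?_ ?_
          all_goals
            intro h
            have := congrFun h 0
            rw [e1, mul_one, one_smul] at this
            simp [blk, emb, hzdef, i0, i2, i3] at this
        · obtain ⟨j1, hj1⟩ := Fintype.exists_ne_of_one_lt_card (by rw [Fintype.card_fin]; omega) j0
          set z : Fin k × Fin t → F := emb i0 (Pi.single j0 1) + emb i1 (Pi.single j0 1) with hzdef
          have hz : sf σ z z = 0 := by
            rw [sf_two hS hi01 (fun p h1 h2 => by rw [hzdef, blk_add, blk_emb, blk_emb, if_neg h1, if_neg h2, add_zero]),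
              hzdef, blk_add, blk_add, blk_emb, blk_emb, blk_emb, blk_emb, if_pos rfl, if_neg hi01,
              if_neg hi01.symm, if_pos rfl, add_zero, zero_add, sf_ax_self]
            linear_combination h20
          have e2 : sf σ (emb i0 (Pi.single j0 1 + Pi.single j1 1)) z = 1 := by
            rw [sf_emb_left, hzdef, blk_add, blk_emb, blk_emb, if_pos rfl, if_neg hi01, add_zero,
              sf_ax_right]
            simp [hj1.symm]
          refine hout z 1 (Pi.single j0 1 + Pi.single j1 1) hz (by rw [map_one]; linear_combination h20) hz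
            i0 i1 hi01 ?_ ?_
          · intro h
            have := congrFun h j1
            rw [e2, mul_one, one_smul] at this
            simp [blk, emb, hzdef, hi01, hi01.symm, hj1, hj1.symm] at this
          · intro h
            have := congrFun h j0
            rw [e2, mul_one, one_smul] at this
            simp [blk, emb, hzdef, hi01, hi01.symm, hj1, hj1.symm] at this
      · obtain ⟨c, hc0, hc, hc1⟩ : ∃ c : F, c ≠ 0 ∧ c + σ c = 0 ∧ c + 1 ≠ 0 := by
          obtain ⟨c, hc0, hc⟩ := exists_traceZero (hS.isUnitary (ι := Fin k))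
          by_cases h1 : c + 1 = 0
          · obtain ⟨r, hr, hr'⟩ := Finset.exists_mem_notMem_of_card_lt_card (s := ({0, 1} : Finset F))
              (t := Finset.univ.filter fun z : F => σ z = z)
              (by rw [card_fixed hF hσ]; have := hS.two_le; exact Finset.card_le_two.trans_lt (by omega))
            simp only [Finset.mem_insert, Finset.mem_singleton, not_or] at hr'
            refine ⟨r * c, mul_ne_zero hr'.1 hc0, ?_, fun e => hr'.2 (by linear_combination r * h1 - e)⟩
            rw [map_mul, (Finset.mem_filter.1 hr).2]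
            linear_combination r * hc
          · exact ⟨c, hc0, hc, h1⟩
        obtain ⟨ξ, hξ⟩ := exists_norm hF hσ (r := (-1 : F)) (by simp)
        have hξ0 : ξ ≠ 0 := fun e => by simp [e] at hξ
        set z : Fin k × Fin t → F := emb i0 (Pi.single j0 1) + emb i1 (Pi.single j0 ξ) with hzdef
        have hz : sf σ z z = 0 := by
          rw [sf_two hS hi01 (fun p h1 h2 => by rw [hzdef, blk_add, blk_emb, blk_emb, if_neg h1, if_neg h2, add_zero]),
            hzdef, blk_add, blk_add, blk_emb, blk_emb, blk_emb, blk_emb, if_pos rfl, if_neg hi01,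
            if_neg hi01.symm, if_pos rfl, add_zero, zero_add, sf_ax_self]
          simp [sf, Pi.single_apply, apply_ite σ]
          linear_combination hξ
        refine hout z c (Pi.single j0 1) hz hc hz i0 i1 hi01 ?_ ?_
        · intro h
          have := congrFun h j0
          simp [blk, emb, hzdef, sf_emb_left, sf_ax_left, hi01, hi01.symm] at this
          exact hc1 (by linear_combination this)
        · intro h
          have := congrFun h j0
          simp [blk, emb, hzdef, sf_emb_left, sf_ax_left, hi01, hi01.symm] at this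
          rcases this with h' | h'
          · exact hc0 h'
          · exact hξ0 h'
    by_cases hle : M ≤ Cfsg.Geo.decompositionStabilizer D
    · exact Or.inl (le_antisymm (le_inf hle hMK) hHM)
    obtain ⟨g₀, hg₀M, hg₀⟩ := SetLike.not_le_iff_exists.1 hle
    obtain ⟨g, rfl⟩ := Cfsg.Agent.S5655.transport_surjective L g₀
    refine Or.inr (le_antisymm hMK ?_)
    set M' := M.comap Φ with hM'
    have hmem : ∀ x, Iso (sf σ) x → x ∈ Cfsg.Geo.specialLinear (Fin k × Fin t) F → StabBlocks x → x ∈ M' :=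
      fun x h1 h2 h3 => hHM (Subgroup.mem_inf.2 ⟨hstab x h3, (hΦiso x).2 ⟨h1, h2⟩⟩)
    have hiso' : ∀ x ∈ M', Iso (sf σ) x ∧ x ∈ Cfsg.Geo.specialLinear (Fin k × Fin t) F :=
      fun x hx => (hΦiso x).1 (hMK hx)
    have hcent : ∀ y, sf σ y y = 0 → Centre hS.isUnitary M' y := by
      by_cases hk1 : k = 1
      · have hmono : ∀ x : GL (Fin k × Fin t) F, IsMono x → StabBlocks x := fun x hx => by
          subst hk1
          choose π hπ using hx
          have hπi := mono_index_injective hπ
          refine ⟨Equiv.ofBijective (fun i => (π (0, i)).2) (Finite.injective_iff_bijective.1 fun a a' h => ?_),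
            fun i y => ⟨blk ((x : Matrix _ _ F) *ᵥ emb i y) ((π (0, i)).2), emb_eq_of_blk fun l hl => ?_⟩⟩
          · have : π (0, a) = π (0, a') := Prod.ext (Subsingleton.elim _ _) h
            exact congrArg Prod.snd (hπi this)
          · have e : emb i y = y 0 • (Pi.single ((0 : Fin 1), i) 1 : Fin 1 × Fin t → F) := funext fun p => by
              obtain ⟨j, i'⟩ := p
              obtain rfl : j = 0 := Subsingleton.elim _ _
              by_cases h : i' = i
              · subst h; simp [emb]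
              · simp [emb, h]
            obtain ⟨c, hc⟩ := Submodule.mem_span_singleton.1 (hπ (0, i))
            rw [e, mulVec_smul, ← hc]
            funext j
            have : (j, l) ≠ π (0, i) := fun h => hl (by simpa using congrArg Prod.snd h)
            simp [blk, this]
        have hO : Over q σ M' :=
          ⟨hS, fun x h1 h2 h3 => hmem x h1 h2 (hmono x h3), fun x hx => (hiso' x hx).1,
            fun x hx => (hiso' x hx).2⟩
        exact CfsgLib.UnitMono91.all_centres hO (by rw [Fintype.card_prod, Fintype.card_fin, Fintype.card_fin, hk1]; subst hk1; omega)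
          (g₀ := g) hg₀M (fun h => hg₀ (hstab g (hmono g h)))
      · have hO : BOver q σ M' :=
          { std := hS, stab_mem := hmem, iso := fun x hx => (hiso' x hx).1
            two_le := by rw [Fintype.card_fin]; omega
            small := fun h => by
              rw [Fintype.card_fin] at h
              refine ⟨?_, hk2 h⟩
              rw [Fintype.card_fin]
              subst h
              omega }
        exact CfsgLib.UnitBlock.all_centres hO (g := g) hg₀M (fun h => hg₀ (hstab g h))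
    refine gu_le_of_centres hF (by omega) hσ hfn fun v hv => ?_
    obtain ⟨y, rfl⟩ := L.surjective v
    rw [hLf] at hv
    obtain ⟨hv', hc⟩ := hcent y hv
    refine ⟨by rw [hLf]; exact hv, fun c hc0 => ?_⟩
    convert Subgroup.mem_comap.1 (hc c hc0) using 1
    refine ext_mulVec fun u => ?_
    obtain ⟨x, rfl⟩ := L.surjective u
    rw [Cfsg.Agent.S5655.transport_mulVec, uT_mulVec, uT_mulVec, hLf, map_add, map_smul])


theorem lagrangian_maximal {F : Type*} [Field F] [Fintype F] (n q : ℕ) (hF : Fintype.card F = q ^ 2) (hn : 10 ≤ n) (k : ℕ) (hk : 2 * k = n) (D : Fin 2 → Submodule F (Fin n → F)) (hD : Cfsg.Geo.IsMDecomposition k D) (hts : ∀ i, Cfsg.Geo.IsTotallySingularFor (Cfsg.hermForm n F q) (D i)) : Cfsg.Geo.IsMaximalIn (Cfsg.GU n F q ⊓ Cfsg.Geo.specialLinear (Fin n) F) (Cfsg.Geo.decompositionStabilizer D ⊓ (Cfsg.GU n F q ⊓ Cfsg.Geo.specialLinear (Fin n) F)) := by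
  have hd := hD.finrank_eq
  have htop : D 0 ⊔ D 1 = ⊤ :=
    eq_top_iff.2 (hD.iSup_eq_top ▸ iSup_le (Fin.forall_fin_two.2 ⟨le_sup_left, le_sup_right⟩))
  have hinf : ∀ x ∈ D 0, x ∈ D 1 → x = 0 :=
    Submodule.disjoint_def.1 (hD.indep.pairwiseDisjoint (show (0 : Fin 2) ≠ 1 by decide))
  have hmap : ∀ (g : Matrix.GeneralLinearGroup (Fin n) F) (i j : Fin 2),
      (D i).map (Matrix.toLin' (g : Matrix (Fin n) (Fin n) F)) = D j ↔
        ∀ x ∈ D i, (g : Matrix (Fin n) (Fin n) F).mulVec x ∈ D j := by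
    refine fun g i j => ⟨fun h x hx => h ▸ ⟨x, hx, Matrix.toLin'_apply _ x⟩, fun h => ?_⟩
    refine Submodule.eq_of_le_of_finrank_le ?_ (by
      rw [(Submodule.equivMapOfInjective _ (fun a b hab => by
        have := congrArg (((g⁻¹ : Matrix.GeneralLinearGroup (Fin n) F) :
          Matrix (Fin n) (Fin n) F).mulVec) hab
        simpa [Matrix.toLin'_apply, Matrix.mulVec_mulVec] using this) _).finrank_eq.symm, hd, hd])
    rintro _ ⟨x, hx, rfl⟩
    rw [Matrix.toLin'_apply]
    exact h x hx
  refine CfsgLib.UnitGeo91.isoPair_isMaximal hF (fun h => by omega)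
    ⟨hts 0, hts 1, htop, hinf, by rw [hd, hd], by rw [hd]; omega⟩ _ fun g => ?_
  constructor
  · rintro ⟨⟨σ, hσ⟩, hg⟩
    refine ⟨hg, ?_⟩
    by_cases h : σ 0 = 0
    · have h1 : σ 1 = 1 := by
        have := σ.injective.ne (show (1 : Fin 2) ≠ 0 by decide)
        omega
      exact Or.inl ⟨(hmap g 0 0).1 ((hσ 0).trans (by rw [h])), (hmap g 1 1).1 ((hσ 1).trans (by rw [h1]))⟩
    · have h0 : σ 0 = 1 := by omega
      have h1 : σ 1 = 0 := by
        have := σ.injective.ne (show (1 : Fin 2) ≠ 0 by decide)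
        omega
      exact Or.inr ⟨(hmap g 0 1).1 ((hσ 0).trans (by rw [h0])), (hmap g 1 0).1 ((hσ 1).trans (by rw [h1]))⟩
  · rintro ⟨hg, ⟨h0, h1⟩ | ⟨h0, h1⟩⟩
    · exact ⟨⟨1, Fin.forall_fin_two.2 ⟨(hmap g 0 0).2 h0, (hmap g 1 1).2 h1⟩⟩, hg⟩
    · exact ⟨⟨Equiv.swap 0 1, Fin.forall_fin_two.2
        ⟨by rw [Equiv.swap_apply_left]; exact (hmap g 0 1).2 h0,
         by rw [Equiv.swap_apply_right]; exact (hmap g 1 0).2 h1⟩⟩, hg⟩


end CfsgLib.UnitGeoSmall91
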